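import Mathlib

/-!
# Normal local domains with separably closed fraction field are strictly henselian
-/

set_option autoImplicit false
universe u
open Polynomial

namespace Groth.Agent.SepClosedNormal

variable {A : Type u} [CommRing A] [IsDomain A] [IsIntegrallyClosed A]
  (K : Type u) [Field K] [Algebra A K] [IsFractionRing A K] [IsSepClosed K]

include K in
/-- An irreducible monic polynomial with nonzero derivative has degree one. -/
lemma natDegree_eq_one {f : A[X]} (hm : f.Monic) (hi : Irreducible f) (hd : derivative f ≠ 0) :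
    f.natDegree = 1 := by
  have hiK : Irreducible (f.map (algebraMap A K)) :=
    (hm.irreducible_iff_irreducible_map_fraction_map (K := K)).mp hi
  have hsep : (f.map (algebraMap A K)).Separable := by
    rw [separable_iff_derivative_ne_zero hiK, derivative_map,
      Polynomial.map_ne_zero_iff (IsFractionRing.injective A K)]
    exact hd
  have h1 := IsSepClosed.degree_eq_one_of_irreducible K hiK hsep
  rw [hm.degree_map] at h1
  exact natDegree_eq_of_degree_eq_some h1

include K in
/-- Simple roots modulo the maximal ideal lift. -/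
lemma exists_root [IsLocalRing A] (f : A[X]) (hm : f.Monic) (a₀ : A)
    (h₁ : f.eval a₀ ∈ IsLocalRing.maximalIdeal A) (h₂ : IsUnit (f.derivative.eval a₀)) :
    ∃ a : A, f.IsRoot a ∧ a - a₀ ∈ IsLocalRing.maximalIdeal A := by
  induction hn : f.natDegree using Nat.strong_induction_on generalizing f with
  | _ n ih =>
  subst hn
  have hd : derivative f ≠ 0 := fun h ↦ by simp [h] at h₂
  by_cases hi : Irreducible f
  · obtain ⟨c, rfl⟩ : ∃ c, f = X + C c :=
      ⟨f.coeff 0, hm.eq_X_add_C (natDegree_eq_one K hm hi hd)⟩
    refine ⟨-c, by simp, ?_⟩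
    have : -c - a₀ = -((X + C c).eval a₀) := by simp; ring
    rw [this]
    exact neg_mem h₁
  · generalize hN : f.natDegree = N at ih
    have hne : f ≠ 1 := fun h ↦ by simp [h] at hd
    rw [hm.irreducible_iff_natDegree, and_iff_right hne] at hi
    push Not at hi
    obtain ⟨g, h, hg, hh, hf, hgd, hhd⟩ := hi
    subst hf
    suffices hmain : ∀ g h : A[X], g.Monic → h.Monic → h.natDegree ≠ 0 →
        (g * h).natDegree ≤ N → IsUnit ((g * h).derivative.eval a₀) →
        g.eval a₀ ∈ IsLocalRing.maximalIdeal A →
        ∃ a : A, (g * h).IsRoot a ∧ a - a₀ ∈ IsLocalRing.maximalIdeal A by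
      rw [eval_mul] at h₁
      rcases (IsLocalRing.maximalIdeal.isMaximal A).isPrime.mem_or_mem h₁ with hga | hha
      · exact hmain g h hg hh hhd hN.le h₂ hga
      · obtain ⟨a, ha, ha'⟩ :=
          hmain h g hh hg hgd (by rw [mul_comm]; exact hN.le) (by rwa [mul_comm]) hha
        exact ⟨a, by rwa [mul_comm], ha'⟩
    clear! g h
    intro g h hg hh hhd hle h₂ hga
    have hu : IsUnit (g.derivative.eval a₀) := by
      by_contra hnu
      apply (IsLocalRing.mem_maximalIdeal _).mp (?_ :
        (g * h).derivative.eval a₀ ∈ IsLocalRing.maximalIdeal A) h₂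
      rw [derivative_mul, eval_add, eval_mul, eval_mul]
      exact Ideal.add_mem _ (Ideal.mul_mem_right _ _ hnu) (Ideal.mul_mem_right _ _ hga)
    obtain ⟨a, ha, ha'⟩ := ih g.natDegree (by rw [hg.natDegree_mul hh] at hle; omega) g hg hga hu rfl
    exact ⟨a, by rw [IsRoot, eval_mul, ha.eq_zero, zero_mul], ha'⟩

include K in
/-- A normal local domain with separably closed fraction field is henselian. -/
lemma henselianLocalRing [IsLocalRing A] : HenselianLocalRing A :=
  ⟨fun f hm a₀ h₁ h₂ ↦ exists_root K f hm a₀ h₁ h₂⟩

include K in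
/-- The residue field of a normal local domain with separably closed fraction field is separably
closed. -/
lemma isSepClosed_residueField [IsLocalRing A] : IsSepClosed (IsLocalRing.ResidueField A) := by
  apply IsSepClosed.of_exists_root
  intro p hpm hpi hps
  obtain ⟨f, hf, hfd, hfm⟩ := lifts_and_natDegree_eq_and_monic
    (f := IsLocalRing.residue A) (p := p)
    ((lifts_iff_coeff_lifts p).mpr fun n ↦ Ideal.Quotient.mk_surjective _) hpm
  have hi : Irreducible f :=
    hfm.irreducible_of_irreducible_map (IsLocalRing.residue A) f (hf.symm ▸ hpi)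
  have hd : derivative f ≠ 0 := fun h ↦ by
    have hp0 := (separable_iff_derivative_ne_zero hpi).mp hps
    rw [← hf, derivative_map, h, Polynomial.map_zero] at hp0
    exact hp0 rfl
  have h1 : p.natDegree = 1 := hfd ▸ natDegree_eq_one K hfm hi hd
  obtain ⟨c, rfl⟩ : ∃ c, p = X + C c := ⟨p.coeff 0, hpm.eq_X_add_C h1⟩
  exact ⟨-c, by simp⟩

end Groth.Agent.SepClosedNormal
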